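import Groth.Agent.Lib.Algz3.Algebraize
import Groth.Agent.Lib.FormalModH7.CplBridge
import Groth.Agent.Lib.Twist.Pullback

/-!
Algebraization of a formal closed subscheme with proper closed fibre.
-/

set_option autoImplicit false
set_option linter.style.haveILetI false
set_option backward.isDefEq.respectTransparency false

universe u

open CategoryTheory CategoryTheory.Limits AlgebraicGeometry Opposite TopologicalSpace

namespace Groth.Agent.Algz3

open Groth.Agent.GExistH7 Groth.Agent.FormalH7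

section general

variable {A : Type u} [CommRing A] {X : Scheme.{u}}

/-- The ideal of functions annihilated by a map out of the structure module. -/
theorem exists_idealSheaf_ker {M : X.Modules} (hM : Coh.IsQCoh M) (φ : Coh.structureModule X ⟶ M) :
    ∃ J : X.IdealSheafData, ∀ (U : X.affineOpens) (r : Γ(X, U.1)), r ∈ J.ideal U ↔ φ.app U.1 r = 0 := by
  have hK : Coh.IsQCoh (kernel φ) := M1.isQCoh_kernel (M1.isQCoh_structureModule X) hM φ
  haveI := hK
  let idl : ∀ U : X.affineOpens, Ideal Γ(X, U.1) := fun U =>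
    { carrier := {r | φ.app U.1 (show Γ(Coh.structureModule X, U.1) from r) = 0}
      add_mem' := fun {a b} ha hb => by
        show φ.app U.1 ((show Γ(Coh.structureModule X, U.1) from a) + (show Γ(Coh.structureModule X, U.1) from b)) = 0
        rw [map_add, show φ.app U.1 (show Γ(Coh.structureModule X, U.1) from a) = 0 from ha,
          show φ.app U.1 (show Γ(Coh.structureModule X, U.1) from b) = 0 from hb, add_zero]
      zero_mem' := map_zero (φ.app U.1).hom
      smul_mem' := fun c x hx => by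
        show φ.app U.1 (c • (show Γ(Coh.structureModule X, U.1) from x)) = 0
        rw [Scheme.Modules.Hom.app_smul, show φ.app U.1 (show Γ(Coh.structureModule X, U.1) from x) = 0 from hx,
          smul_zero] }
  refine ⟨{ ideal := idl, map_ideal_basicOpen := fun U g => ?_ }, fun U r => Iff.rfl⟩
  refine le_antisymm (Ideal.map_le_iff_le_comap.2 fun a ha => ?_) fun b hb => ?_
  · show φ.app (X.basicOpen g) (M1.mres (Coh.structureModule X) (X.basicOpen_le g) a) = 0
    rw [M1.app_mres, show φ.app U.1 (show Γ(Coh.structureModule X, U.1) from a) = 0 from ha]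
    exact map_zero _
  · obtain ⟨c, hc⟩ := (M1.Sub.mem_ker φ (X.basicOpen g) b).2 hb
    obtain ⟨k, t₀, ht⟩ := M1.exists_pow_smul_eq_res_affine (kernel φ) U.2 g c
    have hu : IsUnit (M1.ores (X.basicOpen_le g) g ^ k) :=
      (RingedSpace.isUnit_res_basicOpen X.toRingedSpace g).pow k
    have h2 : (X.presheaf.map (homOfLE (X.basicOpen_le g)).op).hom
        (show Γ(X, U.1) from (kernel.ι φ).app U.1 t₀) ∈
        (idl U).map (X.presheaf.map (homOfLE (X.basicOpen_le g)).op).hom :=
      Ideal.mem_map_of_mem _ ((M1.Sub.mem_ker φ U.1 _).1 ⟨t₀, rfl⟩)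
    refine (Ideal.unit_mul_mem_iff_mem _ hu).1 ?_
    have h3 : M1.ores (X.basicOpen_le g) g ^ k * b =
        (X.presheaf.map (homOfLE (X.basicOpen_le g)).op).hom (show Γ(X, U.1) from (kernel.ι φ).app U.1 t₀) := by
      have := congrArg ((kernel.ι φ).app (X.basicOpen g)) ht
      rw [M1.app_mres, Scheme.Modules.Hom.app_smul] at this
      rw [← hc]
      exact this.symm
    rwa [h3]

/-- A morphism is proper if its restriction to the reduced subscheme is. -/
theorem isProper_of_support {S : Scheme.{u}} (J : X.IdealSheafData) (f : X ⟶ S) [LocallyOfFiniteType f]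
    (h : ClSub.IsProperOver f (J.support : Set X)) : IsProper (J.subschemeι ≫ f) := by
  obtain ⟨hc, hp⟩ := h
  let I' := Scheme.IdealSheafData.vanishingIdeal (⟨_, hc⟩ : Closeds X)
  have hle : J.subschemeι.ker ≤ I'.subschemeι.ker := by
    rw [Scheme.IdealSheafData.ker_subschemeι, Scheme.IdealSheafData.ker_subschemeι]
    exact Scheme.IdealSheafData.le_support_iff_le_vanishingIdeal.1 le_rfl
  let s := IsClosedImmersion.lift J.subschemeι I'.subschemeι hle
  haveI : IsClosedImmersion (s ≫ J.subschemeι) := by rw [IsClosedImmersion.lift_fac]; infer_instance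
  haveI : IsClosedImmersion s := IsClosedImmersion.of_comp s J.subschemeι
  have hs : (⋃ _ : Unit, Set.range s) = Set.univ := Set.eq_univ_of_forall fun z => Set.mem_iUnion.2 ⟨(), by
    obtain ⟨t, ht⟩ : J.subschemeι z ∈ Set.range I'.subschemeι := by
      rw [Scheme.IdealSheafData.range_subschemeι, Scheme.IdealSheafData.coe_support_vanishingIdeal]
      exact J.range_subschemeι.le ⟨z, rfl⟩
    refine ⟨t, J.subschemeι.isEmbedding.injective ?_⟩
    rw [← Scheme.Hom.comp_apply, IsClosedImmersion.lift_fac, ht]⟩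
  haveI : IsProper (I'.subschemeι ≫ f) := hp
  refine ClSub24.isProper_of_jointly (fun _ : Unit => s) hs (J.subschemeι ≫ f) fun _ => ?_
  rw [← Category.assoc, IsClosedImmersion.lift_fac]
  infer_instance

/-- The unit sections are compatible. -/
theorem unitToPush_pushTrans {Y Y' : Scheme.{u}} {ι : Y ⟶ Y'} {q' : Y' ⟶ X} {q : Y ⟶ X} (w : ι ≫ q' = q) :
    ClSub.unitToPush q' ≫ pushTrans w (Twist.pullbackUnitIso ι).hom = ClSub.unitToPush q := by
  refine M1.unit_hom_ext ?_
  show (pushTrans w (Twist.pullbackUnitIso ι).hom).app ⊤ ((ClSub.unitToPush q').app ⊤ (M1.one ⊤)) =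
    (ClSub.unitToPush q).app ⊤ (M1.one ⊤)
  rw [pushTrans_app]
  have h1 : (ClSub.unitToPush q').app ⊤ (M1.one ⊤) = M1.one (q' ⁻¹ᵁ ⊤) := map_one (q'.app ⊤).hom
  rw [h1]
  have h2 : (Twist.pullbackUnitIso ι).hom.app (ι ⁻¹ᵁ (q' ⁻¹ᵁ ⊤))
      (M2.pullSec ι (Coh.structureModule Y') (M1.one (q' ⁻¹ᵁ ⊤))) = M1.one (ι ⁻¹ᵁ (q' ⁻¹ᵁ ⊤)) := by
    have h := congrArg (fun φ => Scheme.Modules.Hom.app φ (q' ⁻¹ᵁ ⊤) (M1.one (q' ⁻¹ᵁ ⊤)))
      (((Scheme.Modules.pullbackPushforwardAdjunction ι).homEquiv (Coh.structureModule Y')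
        (Coh.structureModule Y)).apply_symm_apply
        (SheafOfModules.unitToPushforwardObjUnit ι.toRingCatSheafHom))
    simp only [Adjunction.homEquiv_unit] at h
    exact h.trans (map_one (ι.app (q' ⁻¹ᵁ ⊤)).hom)
  refine ((M1.app_mres (Twist.pullbackUnitIso ι).hom _ _).trans (congrArg _ h2)).trans ?_
  exact (M1.mres_one _).trans (map_one (q.app ⊤).hom).symm

end general

variable {A : Type u} [CommRing A] [IsNoetherianRing A] {I : Ideal A} [IsAdicComplete I A] {X : Scheme.{u}}
  [X.Over (Spec (CommRingCat.of A))] [IsSeparated (X ↘ Spec (CommRingCat.of A))]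
  [LocallyOfFiniteType (X ↘ Spec (CommRingCat.of A))] [QuasiCompact (X ↘ Spec (CommRingCat.of A))]

omit [IsSeparated (X ↘ Spec (CommRingCat.of A))] in
/-- Maps out of a coherent module to one with proper support are determined by the quotients. -/
theorem exists_lift_left {M N : X.Modules} (hM : Coh.IsCoh M) (hN : PS A N) {Q : ℕ → X.Modules}
    {χ : ∀ n, N ⟶ Q n} (hχ : ∀ n, IsQuot (I ^ (n + 1)) (χ n)) (s : ∀ n, Q (n + 1) ⟶ Q n)
    (hs : ∀ n, χ (n + 1) ≫ s n = χ n) (f : ∀ n, M ⟶ Q n) (hf : ∀ n, f (n + 1) ≫ s n = f n) :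
    ∃ ψ : M ⟶ N, ∀ n, ψ ≫ χ n = f n := by
  choose e he using fun n => (isQuot_modPowπ I (n + 1) N).exists_iso (hχ n)
  choose g hg using fun n => (isQuot_modPowπ I (n + 1) M).desc_killed (f n ≫ (e n).inv)
    (isQuot_modPowπ I (n + 1) N).killed
  have hcompat : ∀ n, Formal.modPowTrans I (n + 1) M ≫ g n = g (n + 1) ≫ Formal.modPowTrans I (n + 1) N := by
    intro n
    have h1 : (e (n + 1)).inv ≫ Formal.modPowTrans I (n + 1) N ≫ (e n).hom = s n := by
      refine (hχ (n + 1)).hom_ext ?_
      rw [hs, ← he (n + 1)]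
      simp only [Category.assoc, Iso.hom_inv_id_assoc]
      rw [← Category.assoc, Formal.modPowπ_trans, he]
    refine (isQuot_modPowπ I (n + 1 + 1) M).hom_ext ?_
    rw [← Category.assoc, Formal.modPowπ_trans, hg, ← Category.assoc, hg, ← hf n, ← h1]
    simp
  let ψ : Formal.completion I M ⟶ Formal.completion I N := NatTrans.ofOpSequence g fun n => by
    simp only [Formal.completion, Functor.ofOpSequence_map_homOfLE_succ]
    exact hcompat n
  obtain ⟨φ, hφ, -⟩ := Groth.Agent.S4473.result A I X M N hM hN.1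
    (ClSub24.isProperOver_subset _ Set.inter_subset_right
      ((M1.isClosed_support hM.2).inter (M1.isClosed_support hN.1.2)) hN.2) ψ
  refine ⟨φ, fun n => ?_⟩
  have h1 : Formal.modPowπ I (n + 1) M ≫ g n = φ ≫ Formal.modPowπ I (n + 1) N := hφ n
  rw [← he n, ← Category.assoc, ← h1, hg, Category.assoc, Iso.inv_hom_id, Category.comp_id]

variable (Z : ℕ → Scheme.{u}) (p : (n : ℕ) → (Z n ⟶ Spec (CommRingCat.of (A ⧸ I ^ (n + 1)))))
  (t : (n : ℕ) → (Z n ⟶ Z (n + 1))) (hcart : ∀ n, IsPullback (t n) (p n) (p (n + 1)) (CohB1.specQuotTrans I n))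
  (q : ∀ n, Z n ⟶ X) (hqc : ∀ n, t n ≫ q (n + 1) = q n)
  (hqA : ∀ n, q n ≫ (X ↘ Spec (CommRingCat.of A)) = p n ≫ CohB1.specQuot I n)
  [∀ n, IsClosedImmersion (q n)]

include hcart hqc hqA in
/-- A formal closed subscheme with proper closed fibre comes from a closed subscheme. -/
theorem exists_closed_algebraization (hp : IsProper (p 0)) :
    ∃ (J : X.IdealSheafData) (w : ∀ n, Z n ⟶ J.subscheme),
      IsProper (J.subschemeι ≫ (X ↘ Spec (CommRingCat.of A))) ∧ (∀ n, w n ≫ J.subschemeι = q n) ∧
        (∀ n, w n = t n ≫ w (n + 1)) ∧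
        ∀ n, IsPullback (w n) (p n) (J.subschemeι ≫ (X ↘ Spec (CommRingCat.of A))) (CohB1.specQuot I n) := by
  let f := X ↘ Spec (CommRingCat.of A)
  haveI : IsLocallyNoetherian X := LocallyOfFiniteType.isLocallyNoetherian f
  haveI : ∀ n, IsLocallyNoetherian (Z n) := fun n => LocallyOfFiniteType.isLocallyNoetherian (q n)
  let S : UVan10.TSys I :=
    { X := Z, p := p, i := t, hcart := hcart
      F := fun n => Coh.structureModule (Z n)
      hF := fun n => M1.isCoh_structureModule (Z n)
      ψ := fun n => Twist.pullbackUnitIso (t n) }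
  haveI : ∀ n, IsClosedImmersion ((show ∀ n, S.X n ⟶ X from q) n) := fun n => inferInstanceAs (IsClosedImmersion (q n))
  obtain ⟨M, χ, hM, hq, hc, -⟩ := exists_algebraization S q hqc hqA hp
  let O := Coh.structureModule X
  have hO : Coh.IsCoh O := M1.isCoh_structureModule X
  let u : ∀ n, O ⟶ pushF S q n := fun n => ClSub.unitToPush (q n)
  obtain ⟨φ, hφ⟩ := exists_lift_left hO hM hq (trF S q hqc) hc u fun n => unitToPush_pushTrans (hqc n)
  have hu : ∀ n, Epi (u n) := fun n =>
    UVan10.epi_of_surjective_affines (M1.isQCoh_push (q n) (S.hF n).1) _ fun x => by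
      obtain ⟨U, hU, hxU, -⟩ := exists_isAffineOpen_mem_and_subset (x := x) (U := ⊤) trivial
      exact ⟨U, hU, hxU, (q n).app_surjective U hU⟩
  haveI : Epi φ := by
    refine Abelian.epi_of_cokernel_π_eq_zero φ ?_
    have hQ : Coh.IsCoh (cokernel φ) := M1.isCoh_cokernel hO.1 hM.1 φ
    have h0 : ∀ n, cokernel.π φ ≫ Formal.modPowπ I (n + 1) (cokernel φ) = 0 := by
      intro n
      obtain ⟨g, hg⟩ := (hq n).desc_killed (cokernel.π φ ≫ Formal.modPowπ I (n + 1) (cokernel φ))
        (isQuot_modPowπ I (n + 1) _).killed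
      haveI := hu n
      have : g = 0 := by
        rw [← cancel_epi (u n), ← hφ n, Category.assoc, hg, ← Category.assoc, cokernel.condition, zero_comp, comp_zero]
      rw [← hg, this, comp_zero]
    have hPQ : PS A (cokernel φ) := hM.of_epi (cokernel.π φ) hQ
    have h1 : 𝟙 (cokernel φ) = 0 := (fFaith_PS I).hom_ext hPQ hPQ (fun n => isQuot_modPowπ I (n + 1) _) fun n => by
      rw [Category.id_comp, zero_comp, ← cancel_epi (cokernel.π φ), h0, comp_zero]
    rw [← Category.comp_id (cokernel.π φ), h1, comp_zero]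
  obtain ⟨J, hJ⟩ := exists_idealSheaf_ker hM.1.1 φ
  have hsupp : (J.support : Set X) ⊆ CohB1.support M := fun x hx => by
    by_contra h
    have hz := (M1.notMem_support_iff M x).1 h (M.presheaf.germ ⊤ x trivial (φ.app ⊤ (M1.one ⊤)))
    obtain ⟨V, hxV, i₁, i₂, e⟩ := M.presheaf.germ_eq x (U := ⊤) (V := ⊤) trivial trivial _ 0
      (hz.trans (map_zero _).symm)
    obtain ⟨U, hU, hxU, hUV⟩ := exists_isAffineOpen_mem_and_subset hxV
    have h1 : φ.app U (M1.one U) = 0 := by
      rw [← M1.mres_one (le_top : U ≤ ⊤), M1.app_mres, ← M1.mres_mres M (le_top : V ≤ ⊤) (show U ≤ V from hUV)]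
      show M1.mres M _ (M.presheaf.map i₁.op (φ.app ⊤ (M1.one ⊤))) = 0
      rw [e, map_zero]
      exact map_zero _
    have hmem : (1 : Γ(X, U)) ∈ J.ideal ⟨U, hU⟩ := (hJ ⟨U, hU⟩ 1).2 h1
    have hbad := (Scheme.IdealSheafData.mem_support_iff_of_mem (U := ⟨U, hU⟩) hxU).1 hx
    rw [Scheme.mem_zeroLocus_iff] at hbad
    exact hbad 1 hmem (by rw [Scheme.basicOpen_of_isUnit _ isUnit_one]; exact hxU)
  have hproper : IsProper (J.subschemeι ≫ f) :=
    isProper_of_support J f (ClSub24.isProperOver_subset f hsupp J.support.isClosed hM.2)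
  have hker : ∀ n, (q n).ker = J ⊔ (FSch.idealSpec A (I ^ (n + 1))).comap f := fun n => by
    refine Scheme.IdealSheafData.ext (funext fun U => ?_)
    rw [Scheme.IdealSheafData.ideal_sup, Pi.sup_apply,
      FormalModH7.ideal_eq_idl (X := X) (I ^ (n + 1)) _ rfl U.2, Scheme.Hom.ker_apply]
    ext r
    rw [RingHom.mem_ker]
    have hu' : (χ n).app U.1 (φ.app U.1 (show Γ(O, U.1) from r)) = (q n).app U.1 r :=
      congrArg (fun g => g.app U.1 (show Γ(O, U.1) from r)) (hφ n)
    constructor
    · intro hr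
      have h1 := mem_smul_of_app_zero hM.1.1 (χ n) (hq n) U.2 (hu'.trans hr)
      have hs : Function.Surjective (φ.app U.1) := M1.app_surjective_affine_of_isQCoh hO.1 hM.1.1 φ U.2
      have h2 : ∀ m ∈ ((I ^ (n + 1)).map (multHom X U.1) • ⊤ : Submodule Γ(X, U.1) Γ(M, U.1)),
          ∃ a ∈ (I ^ (n + 1)).map (multHom X U.1), φ.app U.1 (show Γ(O, U.1) from a) = m := by
        intro m hm
        refine Submodule.smul_induction_on hm (fun c hc m _ => ?_) fun a b ha hb => ?_
        · obtain ⟨d, rfl⟩ := hs m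
          refine ⟨c * (show Γ(X, U.1) from d), Ideal.mul_mem_right _ _ hc, ?_⟩
          exact Scheme.Modules.Hom.app_smul φ c d
        · obtain ⟨a', ha', rfl⟩ := ha
          obtain ⟨b', hb', rfl⟩ := hb
          exact ⟨a' + b', add_mem ha' hb', map_add (φ.app U.1).hom _ _⟩
      obtain ⟨a, ha, e⟩ := h2 _ h1
      rw [show r = (r - a) + a by abel]
      refine Submodule.add_mem_sup ((hJ U (r - a)).2 ?_) ha
      show φ.app U.1 ((show Γ(O, U.1) from r) - (show Γ(O, U.1) from a)) = 0
      rw [map_sub, e, sub_self]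
    · intro hr
      obtain ⟨a, ha, b, hb, rfl⟩ := Submodule.mem_sup.1 hr
      rw [map_add]
      have h1 : (q n).app U.1 a = 0 := by
        have := congrArg (fun g => g.app U.1 (show Γ(O, U.1) from a)) (hφ n)
        refine this.symm.trans ?_
        show (χ n).app U.1 (φ.app U.1 (show Γ(O, U.1) from a)) = 0
        rw [(hJ U a).1 ha, map_zero]
      have h2 : (I ^ (n + 1)).map (multHom X U.1) ≤ RingHom.ker ((q n).app U.1).hom := by
        refine Ideal.map_le_iff_le_comap.2 fun c hc => ?_
        show (q n).app U.1 (mult X c U.1) = 0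
        rw [app_mult S q hqA, S.c_eq_zero _ hc]
      rw [h1, h2 hb, add_zero]
  have hle : ∀ n, J.subschemeι.ker ≤ (q n).ker := fun n => by
    rw [Scheme.IdealSheafData.ker_subschemeι, hker]
    exact le_sup_left
  let w := fun n => IsClosedImmersion.lift J.subschemeι (q n) (hle n)
  have hw : ∀ n, w n ≫ J.subschemeι = q n := fun n => IsClosedImmersion.lift_fac _ _ _
  refine ⟨J, w, hproper, hw, fun n => ?_, fun n => ?_⟩
  · rw [← cancel_mono J.subschemeι, Category.assoc, hw, hw, hqc]
  · haveI : IsClosedImmersion (CohB1.specQuot I n) :=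
      IsClosedImmersion.spec_of_surjective _ Ideal.Quotient.mk_surjective
    refine IsPullback.mk' (by rw [← Category.assoc, hw]; exact hqA n) (fun T a b h1 _ => ?_) fun T c d e => ?_
    · rw [← cancel_mono (q n), ← hw, ← Category.assoc, h1, Category.assoc]
    · have h1 : (q n).ker ≤ (c ≫ J.subschemeι).ker := by
        rw [hker]
        refine sup_le ?_ ?_
        · exact (Scheme.IdealSheafData.ker_subschemeι J).ge.trans (c.le_ker_comp _)
        · have h2 : pullback.lift (c ≫ J.subschemeι) d (by rw [Category.assoc]; exact e) ≫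
              pullback.fst f (CohB1.specQuot I n) = c ≫ J.subschemeι := pullback.lift_fst _ _ _
          rw [← h2, show (FSch.idealSpec A (I ^ (n + 1))).comap f = (pullback.fst f (CohB1.specQuot I n)).ker from
            (Scheme.IdealSheafData.ker_fst_of_isClosedImmersion (CohB1.specQuot I n) f).symm]
          exact Scheme.Hom.le_ker_comp _ _
      refine ⟨IsClosedImmersion.lift (q n) (c ≫ J.subschemeι) h1, ?_, ?_⟩
      · rw [← cancel_mono J.subschemeι, Category.assoc, hw, IsClosedImmersion.lift_fac]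
      · rw [← cancel_mono (CohB1.specQuot I n), Category.assoc, ← hqA, ← Category.assoc,
          IsClosedImmersion.lift_fac, Category.assoc]
        exact e

end Groth.Agent.Algz3
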