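import Groth.Agent.Lib.Algz3.PushSys
import Groth.Agent.Lib.GExistH7.Main
import Groth.Agent.Lib.GExistH7.Model
import Groth.Agent.Lib.ClSub24.Proper

/-!
Algebraization of coherent systems living on closed thickenings.
-/

set_option autoImplicit false
set_option linter.style.haveILetI false
set_option backward.isDefEq.respectTransparency false

universe u

open CategoryTheory CategoryTheory.Limits AlgebraicGeometry Opposite TopologicalSpace

namespace Groth.Agent.Algz3

open Groth.Agent.GExistH7 Groth.Agent.FormalH7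

variable {A : Type u} [CommRing A] {X : Scheme.{u}} [X.Over (Spec (CommRingCat.of A))]

/-- The kernel of a quotient map on an affine open. -/
theorem mem_smul_of_app_zero {L : Ideal A} {M N : X.Modules} (hM : Coh.IsQCoh M) (p : M ⟶ N)
    (hp : IsQuot L p) {U : X.Opens} (hU : IsAffineOpen U) {s : Γ(M, U)} (hs : p.app U s = 0) :
    s ∈ (L.map (multHom X U) • ⊤ : Submodule Γ(X, U) Γ(M, U)) := by
  haveI := hM
  obtain ⟨w, hw⟩ := hp.isIso_desc
  refine mem_smul_of_germ_mem hU _ s fun y hy => ?_
  rw [← map_germ_multHom _ hy]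
  refine mem_stalk_of_map_eq_zero p w hw y _ ?_
  rw [M1.germ_naturality, hs]
  exact map_zero _

/-- The adjunct of a quotient map to a direct image along a closed immersion is an isomorphism. -/
theorem nonempty_pullback_iso {Y : Scheme.{u}} (q : Y ⟶ X) [IsClosedImmersion q] {F : Y.Modules} (hF : Coh.IsQCoh F)
    {M : X.Modules} {L : Ideal A} (χ : M ⟶ (Scheme.Modules.pushforward q).obj F) (hχ : IsQuot L χ)
    (hk : Formal.KilledBy L ((Scheme.Modules.pushforward q).obj ((Scheme.Modules.pullback q).obj M))) :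
    Nonempty ((Scheme.Modules.pullback q).obj M ≅ F) := by
  let adj := Scheme.Modules.pullbackPushforwardAdjunction q
  haveI := CohFound.isIso_counit_closedImm q F hF
  obtain ⟨g, hg⟩ := hχ.desc_killed (adj.unit.app M) hk
  let θ : (Scheme.Modules.pullback q).obj M ⟶ F := (Scheme.Modules.pullback q).map χ ≫ adj.counit.app F
  let g' : F ⟶ (Scheme.Modules.pullback q).obj M := inv (adj.counit.app F) ≫ (Scheme.Modules.pullback q).map g ≫
    adj.counit.app _
  haveI := hχ.epi
  haveI : Epi θ := epi_comp _ _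
  have h1 : θ ≫ g' = 𝟙 _ := by
    simp only [θ, g', Category.assoc, IsIso.hom_inv_id_assoc]
    rw [← Category.assoc, ← Functor.map_comp, hg]
    exact adj.left_triangle_components M
  exact ⟨⟨θ, g', h1, by rw [← cancel_epi θ, ← Category.assoc, h1, Category.id_comp, Category.comp_id]⟩⟩

variable {I : Ideal A} (S : UVan10.TSys I) (q : ∀ n, S.X n ⟶ X) (hqc : ∀ n, S.i n ≫ q (n + 1) = q n)
  (hqA : ∀ n, q n ≫ (X ↘ Spec (CommRingCat.of A)) = S.tA n) [∀ n, IsClosedImmersion (q n)]
  [LocallyOfFiniteType (X ↘ Spec (CommRingCat.of A))]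

include hqA in
omit [∀ n, IsClosedImmersion (q n)] [LocallyOfFiniteType (X ↘ Spec (CommRingCat.of A))] in
theorem killedBy_push (n : ℕ) (F : (S.X n).Modules) :
    Formal.KilledBy (I ^ (n + 1)) ((Scheme.Modules.pushforward (q n)).obj F) := fun a ha => by
  refine Scheme.Modules.hom_ext _ _ fun U => ?_
  ext s
  refine (smulMod_app _ a U s).trans ?_
  show (q n).app U (mult X a U) • (show Γ(F, q n ⁻¹ᵁ U) from s) = 0
  rw [app_mult S q hqA, S.c_eq_zero _ ha]
  exact zero_smul _ _

include hqA in
omit [∀ n, IsClosedImmersion (q n)] in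
theorem isProperOver_range [IsClosedImmersion (q 0)] (hp : IsProper (S.p 0)) :
    ClSub.IsProperOver (X ↘ Spec (CommRingCat.of A)) (Set.range (q 0)) := by
  haveI := hp
  haveI : IsClosedImmersion (CohB1.specQuot I 0) := IsClosedImmersion.spec_of_surjective _ Ideal.Quotient.mk_surjective
  haveI : IsProper (q 0 ≫ (X ↘ Spec (CommRingCat.of A))) := by
    rw [hqA 0, UVan10.TSys.tA]
    infer_instance
  exact LimH13.isProperOver_of_isProper _ (q 0) rfl

variable [IsNoetherianRing A] [IsAdicComplete I A] [IsSeparated (X ↘ Spec (CommRingCat.of A))]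
  [QuasiCompact (X ↘ Spec (CommRingCat.of A))]

include hqA in
theorem exists_algebraization (hp : IsProper (S.p 0)) :
    ∃ (M : X.Modules) (χ : ∀ n, M ⟶ pushF S q n), PS A M ∧ (∀ n, IsQuot (I ^ (n + 1)) (χ n)) ∧
      (∀ n, χ (n + 1) ≫ trF S q hqc n = χ n) ∧
      ∀ n, Nonempty ((Scheme.Modules.pullback (q n)).obj M ≅ S.F n) := by
  haveI : IsLocallyNoetherian X := LocallyOfFiniteType.isLocallyNoetherian (X ↘ Spec (CommRingCat.of A))
  have hS := isSys_pushSys S q hqc hqA
  have hsupp : CohB1.support (pushF S q 0) ⊆ Set.range (q 0) := fun x hx => by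
    by_contra h
    exact notMem_support_pushforward (q 0) ((q 0).isClosedEmbedding.isClosedMap _ (M1.isClosed_support (S.hF 0).2))
      (fun ⟨z, _, e⟩ => h ⟨z, e⟩) hx
  have h0 : ClSub.IsProperOver (X ↘ Spec (CommRingCat.of A)) (CohB1.support (pushF S q 0)) :=
    ClSub24.isProperOver_subset _ hsupp (M1.isClosed_support (hS.coh 0).2) (isProperOver_range S q hqA hp)
  obtain ⟨M, χ, hM, hq, hc⟩ := algAll_PS_main (X := X) I (pushSys S q hqc) hS (ps_sys hS h0)
  refine ⟨M, χ, hM, hq, fun n => ?_, fun n =>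
    nonempty_pullback_iso (q n) (S.hF n).1 (χ n) (hq n) (killedBy_push S q hqA n _)⟩
  rw [← gm_ofOpSequence (trF S q hqc) n]
  exact hc n

end Groth.Agent.Algz3
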