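import Groth.Agent.Lib.UVan10.GlobGen
import Groth.Agent.Lib.CohFound.EmbedPow
import Groth.Agent.Lib.ModLimH13.Sections
import Groth.Agent.Lib.FormalH7.Thick
import Groth.Agent.S3573
import Groth.Agent.Lib.VeryAmple11.Univ

/-!
A system of thickenings with a compatible ample system of invertible modules embeds in projective space.
-/

set_option autoImplicit false
set_option linter.style.haveILetI false
set_option backward.isDefEq.respectTransparency false

universe u

open CategoryTheory CategoryTheory.Limits AlgebraicGeometry Opposite TopologicalSpace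

namespace Groth.Agent.Algz3

open Groth.Agent.UVan10
open Groth.Agent.Amp (gm)

/-- Generation by given sections lifts along a bijective closed immersion. -/
theorem generatedBy_of_pullback {X Z : Scheme.{u}} (i : Z ⟶ X) [IsClosedImmersion i] [Surjective i] {M : X.Modules}
    (hM : Coh.IsCoh M) {ι : Type*} (s : ι → ProjUP.Γm M)
    (h : ProjUP.GeneratedBy ((Scheme.Modules.pullback i).obj M) fun m => ProjUP.pullSec i M (s m)) :
    ProjUP.GeneratedBy M s := by
  intro x
  obtain ⟨z, rfl⟩ := i.surjective x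
  haveI := M1.finite_stalk hM.1 hM.2 (i z)
  let f := M2.stalkUnit i z M
  let N : Submodule (X.presheaf.stalk (i z)) (M.presheaf.stalk (i z) : Type u) :=
    Submodule.span (X.presheaf.stalk (i z)) (Set.range fun m => gm M (i z) (U := ⊤) trivial (s m))
  have hf : IsBaseChange (Z.presheaf.stalk z) f := M2.isBaseChange_stalkUnit i z M
  have hsurj : Function.Surjective (algebraMap (X.presheaf.stalk (i z)) (Z.presheaf.stalk z)) :=
    i.stalkMap_surjective z
  have himg : ∀ b ∈ (⊤ : Submodule (Z.presheaf.stalk z) (((Scheme.Modules.pullback i).obj M).presheaf.stalk z : Type u)),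
      ∃ a ∈ N, f a = b := by
    intro b hb
    rw [← h z] at hb
    induction hb using Submodule.span_induction with
    | mem w hw =>
      obtain ⟨m, rfl⟩ := hw
      exact ⟨_, Submodule.subset_span ⟨m, rfl⟩, M2.stalkUnitHom_germ i z M (U := ⊤) trivial (s m)⟩
    | zero => exact ⟨0, zero_mem _, map_zero _⟩
    | add u v _ _ hu hv =>
      obtain ⟨a, ha, rfl⟩ := hu
      obtain ⟨c, hc, rfl⟩ := hv
      exact ⟨a + c, add_mem ha hc, map_add _ _ _⟩
    | smul r u _ hu =>
      obtain ⟨r', rfl⟩ := hsurj r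
      obtain ⟨a, ha, rfl⟩ := hu
      exact ⟨r' • a, N.smul_mem r' ha, by rw [map_smul, algebraMap_smul]⟩
  show N = ⊤
  refine Submodule.eq_top_iff'.2 fun m => ?_
  have hle : (⊤ : Submodule (X.presheaf.stalk (i z)) (M.presheaf.stalk (i z) : Type u)) ≤
      N ⊔ IsLocalRing.maximalIdeal (X.presheaf.stalk (i z)) • ⊤ := by
    intro m _
    obtain ⟨a, ha, hfa⟩ := himg (f m) trivial
    have hk := mem_smul_of_isBaseChange hf hsurj (show f (m - a) = 0 by rw [map_sub, hfa, sub_self])
    rw [show m = a + (m - a) by abel]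
    exact Submodule.add_mem_sup ha
      (Submodule.smul_mono_left (IsLocalRing.le_maximalIdeal (RingHom.ker_ne_top _)) hk)
  exact Submodule.le_of_le_smul_of_le_jacobson_bot Module.Finite.fg_top
    (IsLocalRing.maximalIdeal_le_jacobson _) hle (Submodule.mem_top (x := m))

/-- Generation by given sections transports along isomorphisms. -/
theorem generatedBy_iso {X : Scheme.{u}} {M N : X.Modules} (e : M ≅ N) {ι : Type*} {s : ι → ProjUP.Γm M}
    (h : ProjUP.GeneratedBy M s) : ProjUP.GeneratedBy N fun m => e.hom.app ⊤ (s m) := by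
  intro x
  let φ := M2.stMap ((M2.pmF X).map e.hom) x
  have hb : Function.Bijective φ := (M1.isIso_iff_stalk e.hom).mp inferInstance x
  refine top_le_iff.1 ?_
  rw [← LinearMap.range_eq_top.mpr hb.2, ← Submodule.map_top, ← h x, Submodule.map_span, ← Set.range_comp]
  refine le_of_eq (congrArg _ (congrArg Set.range (funext fun m => ?_)))
  exact M1.germ_naturality e.hom ⊤ x trivial (s m)

/-- The coordinates generate the pulled back `O(1)`. -/
theorem generatedBy_coord {R : Type u} [CommRing R] (n : ℕ) {X : Scheme.{u}} (r : X ⟶ CohB1.ProjSpace n R) :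
    ProjUP.GeneratedBy ((Scheme.Modules.pullback r).obj (_root_.Twist.twistProjSpace n R 1))
      fun i => ProjUP.pullSec r (_root_.Twist.twistProjSpace n R 1) (ProjUP.coord n R i) := by
  intro y
  let 𝒜 := CohB1.polyGrading n R
  obtain ⟨l, hl⟩ := Opens.mem_iSup.1 ((ProjSpace.iSup_basicOpen n R).ge (Opens.mem_top (r y)))
  have hX : (MvPolynomial.X l : MvPolynomial (Fin (n + 1)) R) ∈ 𝒜 1 := MvPolynomial.isHomogeneous_X R l
  have hl' : y ∈ r ⁻¹ᵁ Proj.basicOpen 𝒜 (MvPolynomial.X l) := hl
  have hg := (ProjUP.isGen_sec 𝒜 r hX).stalk hl'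
  rw [M1.germ_mres] at hg
  refine top_le_iff.1 fun a _ => ?_
  obtain ⟨c, rfl⟩ := hg.2 a
  exact Submodule.smul_mem _ c (Submodule.subset_span ⟨l, rfl⟩)

theorem inv_hom_app {X : Scheme.{u}} {M N : X.Modules} (e : M ≅ N) (U : X.Opens) (x : Γ(M, U)) :
    e.inv.app U (e.hom.app U x) = x :=
  congrArg (fun f : M ⟶ M => f.app U x) e.hom_inv_id

variable {A : Type u} [CommRing A] [IsNoetherianRing A] {J : Ideal A} (S : TSys J)

/-- A system with an ample compatible system of invertible modules maps into projective space by closed immersions. -/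
theorem exists_embedding (hp : IsProper (S.p 0)) (hF : ∀ k, S.F k = Coh.structureModule (S.X k))
    (L : (k : ℕ) → (S.X k).Modules) (hL : ∀ k, PicF.IsInvertible (L k))
    (φ : ∀ k, (Scheme.Modules.pullback (S.i k)).obj (L (k + 1)) ≅ L k) (ha : CohB1.IsAmple (L 0)) :
    ∃ (N D : ℕ) (r : ∀ k, S.X k ⟶ CohB1.ProjSpace N A), 0 < D ∧
      (∀ k, IsClosedImmersion (r k)) ∧ (∀ k, r k ≫ CohB1.ProjSpace.toSpec N A = S.tA k) ∧
      (∀ k, S.i k ≫ r (k + 1) = r k) ∧
      ∀ k, Nonempty ((Scheme.Modules.pullback (r k)).obj (_root_.Twist.twistProjSpace N A 1) ≅ CohB1.tensorPow (L k) D) := by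
  haveI := fun k => S.isProper_p hp k
  haveI := fun k => S.isLocallyNoetherian_X hp k
  haveI : ∀ k, IsClosedImmersion (CohB1.specQuot J k) := fun k =>
    IsClosedImmersion.spec_of_surjective _ Ideal.Quotient.mk_surjective
  obtain ⟨n₀, hn₀⟩ := S.exists_vanishing_K L hp hL φ ha
  haveI : IsProper (S.tA 0) := by unfold TSys.tA; infer_instance
  obtain ⟨N, d, j, hd, hj, hjt, ⟨τ₀⟩⟩ := CohFound.exists_closedImmersion_pow_of_isAmple (S.tA 0)
    ((Amp.isAmple_tensorPow_iff (hL 0) (Nat.succ_pos n₀)).2 ha)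
  let D := (n₀ + 1) * d
  have hD : n₀ ≤ D := le_trans (Nat.le_succ n₀) (Nat.le_mul_of_pos_right _ hd)
  let τ₀' := τ₀ ≪≫ M2.tensorPowPow (L 0) (n₀ + 1) d
  let M : ∀ k, (S.X k).Modules := fun k => CohB1.tensorPow (L k) D
  have hM : ∀ k, PicF.IsInvertible (M k) := fun k => Amp.isInvertible_tensorPow (hL k) D
  let ψ : ∀ k, (Scheme.Modules.pullback (S.i k)).obj (M (k + 1)) ≅ M k := fun k =>
    M2.pullTensorPowIso (S.i k) (L (k + 1)) D ≪≫ M2.tensorPowIso (φ k) D
  let O1 := _root_.Twist.twistProjSpace N A 1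
  have hlift : ∀ (k : ℕ) (t : ProjUP.Γm (M k)), ∃ t' : ProjUP.Γm (M (k + 1)),
      (ψ k).hom.app ⊤ (ProjUP.pullSec (S.i k) (M (k + 1)) t') = t := by
    intro k t
    let adj := Scheme.Modules.pullbackPushforwardAdjunction (S.i k)
    let a : CohB1.tensorMod (S.F (k + 1)) (M (k + 1)) ≅ M (k + 1) :=
      M2.tensorIso (eqToIso (hF (k + 1))) (Iso.refl _) ≪≫ M2.tensorLUnit (M (k + 1))
    have hs := surjective_unit_top S L hp hL φ k (hn₀ D hD (k + 1) 1 one_pos)
    have hb : Function.Bijective ((ψ k).hom.app (S.i k ⁻¹ᵁ ⊤)) := ConcreteCategory.bijective_of_isIso _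
    obtain ⟨u, hu⟩ := hs (((Scheme.Modules.pushforward (S.i k)).map ((Scheme.Modules.pullback (S.i k)).map a.inv)).app ⊤
      (((Scheme.Modules.pushforward (S.i k)).map (ψ k).inv).app ⊤ t))
    refine ⟨a.hom.app ⊤ u, ?_⟩
    have hn := congrArg (fun f => f.app ⊤ u) (adj.unit.naturality a.hom)
    refine (congrArg ((ψ k).hom.app (S.i k ⁻¹ᵁ ⊤)) (hn.trans ?_)).trans
      (congrArg (fun f => f.app (S.i k ⁻¹ᵁ ⊤) t) (ψ k).inv_hom_id)
    refine (congrArg (((Scheme.Modules.pushforward (S.i k)).map ((Scheme.Modules.pullback (S.i k)).map a.hom)).app ⊤)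
      hu).trans ?_
    exact congrArg (fun f => f.app (S.i k ⁻¹ᵁ ⊤) ((ψ k).inv.app (S.i k ⁻¹ᵁ ⊤) t))
      (show (Scheme.Modules.pullback (S.i k)).map a.inv ≫ (Scheme.Modules.pullback (S.i k)).map a.hom = 𝟙 _ by
        rw [← Functor.map_comp, Iso.inv_hom_id, CategoryTheory.Functor.map_id])
  let s : ∀ k, Fin (N + 1) → ProjUP.Γm (M k) := fun k =>
    Nat.rec (motive := fun k => Fin (N + 1) → ProjUP.Γm (M k))
      (fun m => τ₀'.hom.app ⊤ (ProjUP.pullSec j O1 (ProjUP.coord N A m)))
      (fun k sk m => (hlift k (sk m)).choose) k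
  have hs : ∀ k m, (ψ k).hom.app ⊤ (ProjUP.pullSec (S.i k) (M (k + 1)) (s (k + 1) m)) = s k m := fun k m =>
    (hlift k (s k m)).choose_spec
  haveI : ∀ k, Surjective (S.i k) := fun k => MorphismProperty.of_isPullback (S.hcart k).flip inferInstance
  have hgen : ∀ k, ProjUP.GeneratedBy (M k) (s k) := by
    intro k
    induction k with
    | zero => exact generatedBy_iso τ₀' (generatedBy_coord N j)
    | succ k ih =>
      refine generatedBy_of_pullback (S.i k)
        (CurveCoh17.isCoh_of_ofRank ((M2.isInvertible_iff_isFinLocFreeOfRank_one _).1 (hM (k + 1)))) _ ?_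
      have e : (fun m => ProjUP.pullSec (S.i k) (M (k + 1)) (s (k + 1) m)) =
          fun m => (ψ k).inv.app ⊤ (s k m) := funext fun m => by
        rw [← hs k m]
        exact (inv_hom_app (ψ k) ⊤ _).symm
      rw [e]
      exact generatedBy_iso (ψ k).symm ih
  choose r hr τ hτ using fun k => Groth.Agent.S3572.result N (S.tA k) (M k) (hM k) (s k) (hgen k)
  have hcomp : ∀ k, S.i k ≫ r (k + 1) = r k := by
    intro k
    refine Groth.Agent.S3573.result N _ _ (by rw [Category.assoc, hr, hr, S.i_tA])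
      (((Scheme.Modules.pullbackComp (S.i k) (r (k + 1))).app O1).symm ≪≫
        (Scheme.Modules.pullback (S.i k)).mapIso (τ (k + 1)) ≪≫ ψ k ≪≫ (τ k).symm) fun m => ?_
    show (τ k).inv.app ⊤ ((ψ k).hom.app ⊤ (((Scheme.Modules.pullback (S.i k)).map (τ (k + 1)).hom).app ⊤
      (((Scheme.Modules.pullbackComp (S.i k) (r (k + 1))).inv.app O1).app ⊤
        (ProjUP.pullSec (S.i k ≫ r (k + 1)) O1 (ProjUP.coord N A m))))) = _
    have h1 : ((Scheme.Modules.pullback (S.i k)).map (τ (k + 1)).hom).app ⊤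
        (((Scheme.Modules.pullbackComp (S.i k) (r (k + 1))).inv.app O1).app ⊤
          (ProjUP.pullSec (S.i k ≫ r (k + 1)) O1 (ProjUP.coord N A m))) =
        ProjUP.pullSec (S.i k) (M (k + 1)) (s (k + 1) m) := by
      refine (congrArg (((Scheme.Modules.pullback (S.i k)).map (τ (k + 1)).hom).app ⊤)
        (VA11.pullbackComp_inv_pullSec (S.i k) (r (k + 1)) O1 (U := ⊤) (ProjUP.coord N A m))).trans ?_
      refine (congrArg (fun f => f.app ⊤ (M2.pullSec (r (k + 1)) O1 (U := ⊤) (ProjUP.coord N A m)))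
        ((Scheme.Modules.pullbackPushforwardAdjunction (S.i k)).unit.naturality (τ (k + 1)).hom)).symm.trans ?_
      exact congrArg (M2.pullSec (S.i k) (M (k + 1))) (hτ (k + 1) m)
    rw [h1, hs, ← hτ k m]
    exact inv_hom_app (τ k) ⊤ _
  let toS := CohB1.ProjSpace.toSpec N A
  haveI : IsProper toS := ProjSpace.isProper_toSpec N A
  let P : ℕ → Scheme.{u} := fun k => CohB1.thick toS J k
  have hth : ∀ k, IsPullback (CohB1.thickι toS J k) (CohB1.thickToBase toS J k) toS (CohB1.specQuot J k) :=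
    fun k => IsPullback.of_hasPullback _ _
  let r' : ∀ k, S.X k ⟶ P k := fun k => (hth k).lift (r k) (S.p k) (hr k)
  have hr'₁ : ∀ k, r' k ≫ CohB1.thickι toS J k = r k := fun k => (hth k).lift_fst _ _ _
  have hr'₂ : ∀ k, r' k ≫ CohB1.thickToBase toS J k = S.p k := fun k => (hth k).lift_snd _ _ _
  haveI : ∀ k, IsClosedImmersion (CohB1.thickι toS J k) := fun k =>
    MorphismProperty.of_isPullback (hth k).flip inferInstance
  have hfst : ∀ k, CohB1.thickTrans toS J k ≫ CohB1.thickι toS J (k + 1) = CohB1.thickι toS J k := fun k =>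
    (pullback.lift_fst _ _ _).trans (Category.comp_id _)
  have hsnd : ∀ k, CohB1.thickTrans toS J k ≫ CohB1.thickToBase toS J (k + 1) =
      CohB1.thickToBase toS J k ≫ CohB1.specQuotTrans J k := fun k => pullback.lift_snd _ _ _
  have htr : ∀ k, IsPullback (CohB1.thickTrans toS J k) (CohB1.thickToBase toS J k) (CohB1.thickToBase toS J (k + 1))
      (CohB1.specQuotTrans J k) := fun k =>
    IsPullback.of_right (h₁₂ := CohB1.thickι toS J (k + 1)) (h₂₂ := CohB1.specQuot J (k + 1)) (v₁₃ := toS)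
      (by rw [hfst, CohB1.specQuotTrans_specQuot]; exact hth k) (hsnd k) (hth (k + 1))
  have hr0 : r 0 = j := by
    refine Groth.Agent.S3573.result N _ _ (by rw [hr, hjt]) (τ 0 ≪≫ τ₀'.symm) fun m => ?_
    show τ₀'.inv.app ⊤ ((τ 0).hom.app ⊤ _) = _
    rw [hτ 0 m]
    exact inv_hom_app τ₀' ⊤ _
  have hcl' : ∀ k, IsClosedImmersion (r' k) := by
    intro k
    induction k with
    | zero =>
      haveI : IsClosedImmersion (r' 0 ≫ CohB1.thickι toS J 0) := by rw [hr'₁, hr0]; exact hj
      exact IsClosedImmersion.of_comp (r' 0) (CohB1.thickι toS J 0)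
    | succ k ih =>
      haveI := ih
      have hw : S.i k ≫ r' (k + 1) = r' k ≫ CohB1.thickTrans toS J k := by
        refine (hth (k + 1)).hom_ext ?_ ?_
        · rw [Category.assoc, hr'₁, Category.assoc, hfst, hr'₁, hcomp]
        · rw [Category.assoc, hr'₂, Category.assoc, hsnd, ← Category.assoc, hr'₂]
          exact (S.hcart k).w
      have hsq : IsPullback (S.i k) (r' k) (r' (k + 1)) (CohB1.thickTrans toS J k) :=
        IsPullback.of_bot (v₂₁ := CohB1.thickToBase toS J k) (v₂₂ := CohB1.thickToBase toS J (k + 1))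
          (by rw [hr'₂, hr'₂]; exact S.hcart k) hw (htr k)
      haveI : IsClosedImmersion (CohB1.thickTrans toS J k) := MorphismProperty.of_isPullback (htr k).flip inferInstance
      haveI : Surjective (CohB1.thickTrans toS J k) := MorphismProperty.of_isPullback (htr k).flip inferInstance
      haveI : IsLocallyNoetherian (P (k + 1)) :=
        LocallyOfFiniteType.isLocallyNoetherian (CohB1.thickι toS J (k + 1) ≫ toS)
      exact FormalH7.isClosedImmersion_of_thickening hsq
  refine ⟨N, D, r, Nat.mul_pos n₀.succ_pos hd, fun k => ?_, hr, hcomp, fun k => ⟨τ k⟩⟩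
  haveI := hcl' k
  rw [← hr'₁ k]
  infer_instance

end Groth.Agent.Algz3
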