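import Groth.Agent.Lib.UVan10.Thick
import Groth.Agent.Lib.GExistH7.SysBridge
import Groth.Agent.Lib.GExistH7.Supp

/-!
A coherent system on thickenings sitting as closed subschemes of a scheme over the base, pushed to the scheme.
-/

set_option autoImplicit false
set_option linter.style.haveILetI false
set_option backward.isDefEq.respectTransparency false

universe u

open CategoryTheory CategoryTheory.Limits AlgebraicGeometry Opposite TopologicalSpace

namespace Groth.Agent.Algz3

open Groth.Agent.GExistH7 Groth.Agent.FormalH7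

variable {A : Type u} [CommRing A] {I : Ideal A} (S : UVan10.TSys I) {X : Scheme.{u}}
  [X.Over (Spec (CommRingCat.of A))] (q : ∀ n, S.X n ⟶ X)
  (hqc : ∀ n, S.i n ≫ q (n + 1) = q n) (hqA : ∀ n, q n ≫ (X ↘ Spec (CommRingCat.of A)) = S.tA n)

/-- The direct image of a level. -/
noncomputable abbrev pushF (n : ℕ) : X.Modules := (Scheme.Modules.pushforward (q n)).obj (S.F n)

/-- The transition maps. -/
noncomputable def trF (n : ℕ) : pushF S q (n + 1) ⟶ pushF S q n := pushTrans (hqc n) (S.ψ n).hom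

/-- The system of direct images. -/
noncomputable abbrev pushSys : ℕᵒᵖ ⥤ X.Modules := Functor.ofOpSequence (X := pushF S q) (trF S q hqc)

include hqA in
theorem app_mult (n : ℕ) (U : X.Opens) (a : A) : (q n).app U (mult X a U) = S.c n (q n ⁻¹ᵁ U) a := by
  have h : Coh.toGlobal (S.tA n) a = (q n).appTop (Coh.toGlobal (X ↘ Spec (CommRingCat.of A)) a) := by
    rw [← hqA n]; rfl
  refine (ConcreteCategory.congr_hom ((q n).naturality (homOfLE (le_top : U ≤ ⊤)).op) _).trans ?_
  show _ = (S.X n).presheaf.map (homOfLE (le_top : q n ⁻¹ᵁ U ≤ ⊤)).op (Coh.toGlobal (S.tA n) a)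
  rw [h]
  rfl

include hqA in
theorem killedBy_pushF (n : ℕ) : Formal.KilledBy (I ^ (n + 1)) (pushF S q n) := fun a ha => by
  refine Scheme.Modules.hom_ext _ _ fun U => ?_
  ext s
  refine (smulMod_app (pushF S q n) a U s).trans ?_
  show (q n).app U (mult X a U) • (show Γ(S.F n, q n ⁻¹ᵁ U) from s) = 0
  rw [app_mult S q hqA, S.c_eq_zero _ ha]
  exact zero_smul _ _

theorem app_app_eq_zero {Y Y' : Scheme.{u}} {ι : Y ⟶ Y'} {q' : Y' ⟶ X} {q : Y ⟶ X} (w : ι ≫ q' = q) (W : X.Opens)
    (r : Γ(X, W)) (h : r ∈ RingHom.ker (q.app W).hom) : (q'.app W r) ∈ RingHom.ker (ι.app (q' ⁻¹ᵁ W)).hom := by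
  subst w
  exact h

variable [∀ n, IsClosedImmersion (q n)]

include hqA in
theorem trF_sections (n : ℕ) {W : X.Opens} (hW : IsAffineOpen W) :
    Function.Surjective ((trF S q hqc n).app W) ∧ ∀ s, (trF S q hqc n).app W s = 0 →
      s ∈ ((I ^ (n + 1)).map (multHom X W) • ⊤ : Submodule Γ(X, W) Γ(pushF S q (n + 1), W)) := by
  haveI : Coh.IsQCoh (S.F (n + 1)) := (S.hF (n + 1)).1
  obtain ⟨h1, h2⟩ := pushTrans_sections (hqc n) (S.ψ n).hom hW
  refine ⟨h1, fun s hs => ?_⟩
  have hV : IsAffineOpen (q (n + 1) ⁻¹ᵁ W) := hW.preimage _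
  refine Submodule.smul_induction_on (h2 s hs) (fun r hr t _ => ?_) fun a b ha hb => add_mem ha hb
  have hz : (q (n + 1)).app W r ∈ RingHom.ker ((S.i n).app (q (n + 1) ⁻¹ᵁ W)).hom :=
    app_app_eq_zero (hqc n) W r hr
  rw [S.ker_app n hV] at hz
  show r • t ∈ _
  have key : ∀ x ∈ S.cI (n + 1) (q (n + 1) ⁻¹ᵁ W) (I ^ (n + 1)), ∀ (r : Γ(X, W)), (q (n + 1)).app W r = x →
      ∀ t : Γ(pushF S q (n + 1), W), r • t ∈
        ((I ^ (n + 1)).map (multHom X W) • ⊤ : Submodule Γ(X, W) Γ(pushF S q (n + 1), W)) := by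
    intro x hx
    induction hx using Submodule.span_induction with
    | mem x hx =>
      obtain ⟨a, ha, rfl⟩ := hx
      intro r hr t
      have : r • t = multHom X W a • t := by
        show (q (n + 1)).app W r • (show Γ(S.F (n + 1), q (n + 1) ⁻¹ᵁ W) from t) =
          (q (n + 1)).app W (mult X a W) • (show Γ(S.F (n + 1), q (n + 1) ⁻¹ᵁ W) from t)
        rw [app_mult S q hqA, hr]
      rw [this]
      exact Submodule.smul_mem_smul (Ideal.mem_map_of_mem _ ha) trivial
    | zero =>
      intro r hr t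
      have : r • t = 0 := by
        show (q (n + 1)).app W r • (show Γ(S.F (n + 1), q (n + 1) ⁻¹ᵁ W) from t) = 0
        rw [hr, zero_smul]
      rw [this]
      exact zero_mem _
    | add x y _ _ hx hy =>
      intro r hr t
      obtain ⟨u, hu⟩ := (q (n + 1)).app_surjective W hW x
      have := add_mem (hx u hu t) (hy (r - u) (by rw [map_sub, hr, hu, add_sub_cancel_left]) t)
      rwa [← add_smul, add_sub_cancel] at this
    | smul c x _ hx =>
      intro r hr t
      obtain ⟨u, hu⟩ := (q (n + 1)).app_surjective W hW x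
      obtain ⟨d, hd⟩ := (q (n + 1)).app_surjective W hW c
      have h := hx u hu (d • t)
      rw [← mul_smul] at h
      have e : r • t = (u * d) • t := by
        show (q (n + 1)).app W r • (show Γ(S.F (n + 1), q (n + 1) ⁻¹ᵁ W) from t) = (q (n + 1)).app W (u * d) • _
        rw [map_mul, hr, hu, hd, smul_eq_mul, mul_comm]
      rwa [e]
  exact key _ hz r rfl t

include hqA in
theorem isSys_pushSys [IsLocallyNoetherian X] : IsSys I (pushSys S q hqc) := by
  refine isSys_ofOpSequence _ (fun n => CohFound.isCoh_push_closedImm _ (S.hF n))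
    (killedBy_pushF S q hqA) fun n => ?_
  exact isQuot_of_sections (ι := X.affineOpens) (fun W => W.1) (fun W => W.2)
    (fun x => by
      obtain ⟨_, ⟨W, hW, rfl⟩, hxW, -⟩ := X.isBasis_affineOpens.exists_subset_of_mem_open (Set.mem_univ x) isOpen_univ
      exact ⟨⟨W, hW⟩, hxW⟩)
    (CohFound.isCoh_push_closedImm _ (S.hF (n + 1))).1 (CohFound.isCoh_push_closedImm _ (S.hF n)).1 _
    (killedBy_pushF S q hqA n) (fun W => (trF_sections S q hqc hqA n W.2).1)
    fun W => (trF_sections S q hqc hqA n W.2).2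

end Groth.Agent.Algz3
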